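import Cfsg.Agent.H98.Dick9

set_option autoImplicit false

namespace Cfsg.Agent.H98.DickGen

open Matrix Cfsg.Agent.H81 Cfsg.Agent.H98.DickRoot Cfsg.Agent.H98.Dick9

variable {F : Type*} [Field F]

theorem eq_top_of_roots (H : Subgroup (SpecialLinearGroup (Fin 2) F)) (hx : ∀ a, xx a ∈ H) (hy : ∀ a, yy a ∈ H) :
    H = ⊤ := by
  have key : ∀ g : SpecialLinearGroup (Fin 2) F, g.1 1 0 ≠ 0 → g ∈ H := by
    intro g hc
    have hdet := g.2
    rw [Matrix.det_fin_two] at hdet
    have : g = xx ((g.1 0 0 - 1) / g.1 1 0) * yy (g.1 1 0) * xx ((g.1 1 1 - 1) / g.1 1 0) := by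
      apply slExt
      rw [slMul_val, slMul_val, xx_val, yy_val, xx_val]
      ext i j; fin_cases i <;> fin_cases j <;> simp [Matrix.mul_apply, Fin.sum_univ_two, hc]
      · field_simp
        linear_combination (-1 : F) * hdet
      · field_simp
        ring
    rw [this]
    exact H.mul_mem (H.mul_mem (hx _) (hy _)) (hx _)
  rw [Subgroup.eq_top_iff']
  intro g
  by_cases hc : g.1 1 0 = 0
  · have hdet := g.2
    rw [Matrix.det_fin_two, hc, mul_zero, sub_zero] at hdet
    have h1 : yy 1 * g ∈ H := by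
      apply key
      rw [slMul_val, yy_val]
      simp only [Matrix.mul_apply, Fin.sum_univ_two]
      simp only [Matrix.of_apply, Matrix.cons_val', Matrix.cons_val_zero, Matrix.cons_val_one,
        Matrix.cons_val_fin_one, hc, one_mul, add_zero]
      intro h
      rw [h, zero_mul] at hdet
      exact zero_ne_one hdet
    have h2 := H.mul_mem (H.inv_mem (hy 1)) h1
    rwa [inv_mul_cancel_left] at h2
  · exact key g hc

/-- the field with `3 = 0` generated by a square root of `-1` has nine elements -/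
theorem card_nine [Fintype F] (h3 : (3 : F) = 0) {lam : F} (hl : lam ^ 2 = -1)
    (hgen : Subfield.closure ({lam} : Set F) = ⊤) : Fintype.card F = 9 := by
  classical
  have h10 : (1 : F) ≠ 0 := one_ne_zero
  let f : Fin 9 → F := fun a => f9 lam a.1
  have hinj : Function.Injective f := fun a b h => Fin.ext (f9_inj h3 hl a.2 b.2 h)
  have hsurj : Function.Surjective f := by
    let K : Subring F :=
      { carrier := Set.range (f9 lam)
        mul_mem' := by
          rintro _ _ ⟨a, rfl⟩ ⟨b, rfl⟩
          exact ⟨m9 a b, f9_m9 h3 hl a b⟩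
        one_mem' := ⟨1, by simp [f9]⟩
        add_mem' := by
          rintro _ _ ⟨a, rfl⟩ ⟨b, rfl⟩
          exact ⟨a9 a b, f9_a9 h3 lam a b⟩
        zero_mem' := ⟨0, by simp [f9]⟩
        neg_mem' := by
          rintro _ ⟨a, rfl⟩
          refine ⟨m9 2 a, ?_⟩
          rw [f9_m9 h3 hl]
          have : f9 lam 2 = (2 : F) := by simp [f9]
          rw [this]
          linear_combination (f9 lam a) * h3 }
    have hKinv : ∀ x ∈ K, x⁻¹ ∈ K := by
      intro x hx
      by_cases hx0 : x = 0
      · subst hx0; simp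
      have h2 : x ^ (Fintype.card F - 1) = 1 := FiniteField.pow_card_sub_one_eq_one x hx0
      have hc : 2 ≤ Fintype.card F := Fintype.one_lt_card
      have h4 : x * x ^ (Fintype.card F - 2) = 1 := by
        rw [← pow_succ', show Fintype.card F - 2 + 1 = Fintype.card F - 1 by omega, h2]
      rw [← eq_inv_of_mul_eq_one_right h4]
      exact pow_mem hx _
    let K' : Subfield F := { K with inv_mem' := hKinv }
    have hK' : lam ∈ K' := ⟨3, by simp [f9]⟩
    have htop : K' = ⊤ := by
      rw [eq_top_iff, ← hgen, Subfield.closure_le]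
      rintro _ rfl
      exact hK'
    intro x
    have hx : x ∈ K' := by rw [htop]; trivial
    obtain ⟨a, ha⟩ : ∃ a, f9 lam a = x := hx
    refine ⟨⟨a9 a 0, ?_⟩, ?_⟩
    · rw [a9]; omega
    · change f9 lam (a9 a 0) = x
      rw [f9_a9 h3, ha]
      simp [f9]
  have := Fintype.card_of_bijective ⟨hinj, hsurj⟩
  rw [← this, Fintype.card_fin]

theorem dickson_gen [Fintype F] (h2 : (2 : F) ≠ 0) (lam : F) (hlam : lam ≠ 0)
    (hgen : Subfield.closure ({lam} : Set F) = ⊤) (S : Set (SpecialLinearGroup (Fin 2) F))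
    (hS : ∀ g, g ∈ S ↔ g = yy 1 ∨ g = xx lam) :
    (Subgroup.closure S = ⊤ ∧ ¬ (Fintype.card F = 9 ∧ lam ^ 2 = -1)) ∨
      (Fintype.card F = 9 ∧ lam ^ 2 = -1 ∧ Nat.card (Subgroup.closure S) = 120) := by
  classical
  by_cases hexc : Fintype.card F = 9 ∧ lam ^ 2 = -1
  · right
    refine ⟨hexc.1, hexc.2, ?_⟩
    have h9 : ((Fintype.card F : ℕ) : F) = 0 := Nat.cast_card_eq_zero F
    rw [hexc.1] at h9
    have h3 : (3 : F) = 0 := by
      have : (3 : F) * 3 = 0 := by push_cast at h9; linear_combination h9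
      rcases mul_eq_zero.1 this with h | h <;> exact h
    exact card_exc h3 hexc.2 S hS
  left
  refine ⟨?_, hexc⟩
  obtain ⟨p, hpc⟩ := CharP.exists F
  have hp : Fact p.Prime := ⟨by
    have := CharP.char_is_prime_or_zero F p
    rcases this with h | h
    · exact h
    · subst h
      exact absurd (CharP.charP_to_charZero F) (by
        intro h
        exact not_finite F)⟩
  have hp2 : p ≠ 2 := by
    rintro rfl
    exact h2 (by have := CharP.cast_eq_zero F 2; exact_mod_cast this)
  set H := Subgroup.closure S with hH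
  have hy1 : yy (1 : F) ∈ H := Subgroup.subset_closure ((hS _).2 (Or.inl rfl))
  have hxl : xx lam ∈ H := Subgroup.subset_closure ((hS _).2 (Or.inr rfl))
  have a1 : xx (1 : F) ∈ H.comap (conjSL (dg lam hlam)) := by
    rw [Subgroup.mem_comap, conj_dg_xx, mul_one]; exact hxl
  have a2 : yy lam ∈ H.comap (conjSL (dg lam hlam)) := by
    have h5 := conj_dg_yy lam hlam 1
    rw [mul_one] at h5
    rw [Subgroup.mem_comap, h5]; exact hy1
  rcases dick_sub p hp2 _ hlam a1 a2 with ⟨K, hK, hKx, hKy⟩ | ⟨h3, h4, _⟩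
  · have htop : K = ⊤ := by
      rw [eq_top_iff, ← hgen, Subfield.closure_le]
      rintro _ rfl
      exact hK
    have h5 : H.comap (conjSL (dg lam hlam)) = ⊤ := by
      apply eq_top_of_roots
      · intro a; rw [hKx, htop]; trivial
      · intro a; rw [hKy, htop]; trivial
    rw [Subgroup.eq_top_iff']
    intro g
    have h6 : conjSL (dg lam hlam)⁻¹ g ∈ H.comap (conjSL (dg lam hlam)) := by rw [h5]; trivial
    rw [Subgroup.mem_comap, conjSL_conjSL_inv] at h6
    exact h6
  · exact absurd ⟨card_nine h3 h4 hgen, h4⟩ hexc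

end Cfsg.Agent.H98.DickGen
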