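import Cfsg.Agent.H98.DickRoot

set_option autoImplicit false

namespace Cfsg.Agent.H98.Dick9

open Matrix Cfsg.Agent.H81

/-- product in the field of nine elements `F₃ + F₃ λ`, `λ² = -1`, codes `a + 3 b` -/
def m9 (a b : ℕ) : ℕ := ((a % 3) * (b % 3) + 2 * ((a / 3) * (b / 3))) % 3 + 3 * (((a % 3) * (b / 3) + (a / 3) * (b % 3)) % 3)
/-- sum -/
def a9 (a b : ℕ) : ℕ := (a % 3 + b % 3) % 3 + 3 * ((a / 3 + b / 3) % 3)

abbrev Q := ℕ × ℕ × ℕ × ℕ

def Lm (x : Q) : Q := (x.1, x.2.1, a9 x.1 x.2.2.1, a9 x.2.1 x.2.2.2)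
def Um (x : Q) : Q := (a9 x.1 (m9 3 x.2.2.1), a9 x.2.1 (m9 3 x.2.2.2), x.2.2.1, x.2.2.2)

def T0 : List Q :=
    [(1, 0, 0, 1), (1, 0, 1, 1), (1, 3, 0, 1), (1, 0, 2, 1), (4, 3, 1, 1), (1, 3, 1, 4), (1, 6, 0, 1),
    (7, 3, 2, 1), (4, 3, 5, 4), (7, 6, 1, 1), (1, 3, 2, 7), (4, 8, 1, 4), (1, 6, 1, 7), (7, 3, 6, 4),
    (4, 6, 2, 1), (4, 3, 6, 7), (0, 8, 5, 4), (7, 6, 8, 7), (7, 7, 2, 7), (4, 8, 5, 0), (7, 1, 1, 4),
    (1, 6, 2, 4), (4, 1, 1, 7), (7, 3, 4, 7), (8, 8, 6, 4), (4, 6, 3, 7), (5, 7, 6, 7), (0, 8, 5, 0),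
    (8, 1, 5, 4), (7, 6, 3, 4), (5, 1, 8, 7), (7, 7, 6, 5), (4, 2, 2, 7), (4, 8, 6, 8), (7, 1, 8, 5),
    (7, 2, 2, 4), (4, 1, 5, 8), (7, 5, 1, 7), (0, 7, 4, 7), (8, 8, 5, 0), (6, 1, 6, 4), (4, 6, 7, 4),
    (3, 1, 3, 7), (5, 7, 2, 5), (3, 2, 6, 7), (0, 8, 5, 8), (8, 1, 1, 5), (6, 2, 3, 4), (5, 1, 1, 8),
    (0, 5, 8, 7), (7, 7, 4, 0), (8, 3, 6, 5), (4, 2, 3, 6), (5, 3, 6, 8), (7, 1, 3, 3), (5, 6, 8, 5),
    (7, 2, 6, 3), (4, 4, 2, 4), (4, 1, 6, 6), (7, 5, 8, 0), (0, 7, 4, 5), (5, 2, 4, 7), (8, 8, 1, 8),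
    (6, 1, 3, 5), (8, 2, 7, 4), (3, 1, 6, 8), (5, 5, 3, 7), (5, 7, 4, 0), (2, 3, 2, 5), (3, 2, 0, 6),
    (8, 3, 5, 8), (8, 1, 6, 3), (2, 6, 1, 5), (6, 2, 0, 3), (8, 4, 3, 4), (5, 1, 3, 6), (0, 5, 8, 0),
    (0, 7, 4, 0), (6, 2, 6, 5), (4, 2, 7, 8), (3, 0, 3, 6), (5, 3, 2, 2), (6, 0, 3, 3), (5, 6, 1, 2),
    (0, 5, 8, 5), (7, 2, 4, 5), (4, 4, 3, 8), (5, 2, 6, 6), (7, 5, 3, 5), (5, 5, 8, 0), (5, 3, 4, 5),
    (2, 3, 1, 8), (6, 1, 0, 3), (8, 6, 3, 5), (8, 2, 3, 3), (0, 4, 7, 4), (3, 1, 0, 6), (8, 2, 2, 5),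
    (3, 2, 3, 8), (3, 0, 0, 6), (8, 3, 1, 2), (6, 0, 6, 3), (2, 6, 0, 2), (5, 5, 1, 5), (8, 4, 2, 8),
    (8, 6, 7, 8), (3, 0, 6, 6), (2, 0, 2, 2), (6, 0, 0, 3), (5, 6, 3, 8), (4, 4, 7, 0), (5, 2, 2, 8),
    (2, 3, 0, 2), (8, 6, 2, 2), (0, 4, 7, 8), (2, 0, 1, 2), (2, 6, 2, 8), (8, 4, 7, 0), (2, 0, 0, 2),
    (0, 4, 7, 0)]

def steps : List (Bool × ℕ) :=
    [(true, 0), (false, 0), (true, 1), (false, 1), (true, 2), (false, 2), (false, 3), (true, 4), (false,
    4), (true, 5), (false, 5), (true, 6), (true, 7), (false, 7), (true, 8), (false, 8), (true, 9),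
    (false, 10), (true, 11), (false, 11), (true, 12), (false, 12), (true, 13), (false, 13), (true, 14),
    (false, 15), (true, 16), (false, 16), (true, 17), (false, 17), (true, 18), (false, 18), (true, 19),
    (true, 20), (false, 21), (true, 22), (false, 22), (false, 23), (true, 24), (false, 24), (true, 25),
    (false, 25), (true, 26), (false, 26), (true, 27), (true, 28), (false, 29), (true, 30), (false, 30),
    (true, 31), (false, 31), (true, 32), (false, 33), (true, 34), (false, 34), (true, 35), (false, 35),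
    (true, 36), (true, 37), (true, 38), (false, 38), (true, 39), (true, 40), (false, 41), (true, 42),
    (false, 42), (true, 43), (false, 43), (true, 44), (false, 45), (true, 46), (false, 46), (true, 47),
    (false, 47), (true, 48), (true, 49), (false, 50), (false, 51), (true, 52), (false, 52), (true, 53),
    (false, 54), (true, 55), (false, 55), (true, 56), (true, 57), (false, 58), (true, 59), (false, 59),
    (false, 60), (false, 62), (true, 63), (false, 63), (true, 64), (false, 64), (true, 65), (false, 68),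
    (true, 69), (false, 69), (true, 70), (false, 71), (true, 72), (false, 72), (true, 74), (false, 79),
    (true, 80), (false, 81), (true, 82), (true, 83), (true, 86), (true, 87), (true, 91), (true, 93),
    (true, 95), (false, 100), (true, 102), (true, 104), (false, 112), (true, 114)]

def stp (acc : List Q) (s : Bool × ℕ) : List Q :=
  acc ++ [if s.1 then Lm (acc.getD s.2 (1, 0, 0, 1)) else Um (acc.getD s.2 (1, 0, 0, 1))]

theorem T0_eq : steps.foldl stp [(1, 0, 0, 1)] = T0 := by decide +kernel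
theorem T0_len : T0.length = 120 := by decide +kernel
theorem T0_nodup : T0.Nodup := by decide +kernel
theorem T0_closed : (T0.all fun x => T0.contains (Lm x) && T0.contains (Um x)) = true := by decide +kernel
theorem T0_bd : (T0.all fun x => decide (x.1 < 9) && decide (x.2.1 < 9) && decide (x.2.2.1 < 9) && decide (x.2.2.2 < 9)) = true := by
  decide +kernel
theorem T0_one : T0.contains (1, 0, 0, 1) = true := by decide +kernel

theorem foldl_ind (P : Q → Prop) (h1 : P (1, 0, 0, 1)) (hL : ∀ x, P x → P (Lm x)) (hU : ∀ x, P x → P (Um x)) :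
    ∀ (st : List (Bool × ℕ)) (acc : List Q), (∀ x ∈ acc, P x) → ∀ x ∈ st.foldl stp acc, P x := by
  intro st
  induction st with
  | nil => intro acc h x hx; exact h x hx
  | cons s st ih =>
    intro acc h x hx
    rw [List.foldl_cons] at hx
    refine ih _ ?_ x hx
    intro y hy
    rw [stp, List.mem_append, List.mem_singleton] at hy
    rcases hy with hy | hy
    · exact h y hy
    · have hg : P (acc.getD s.2 (1, 0, 0, 1)) := by
        by_cases hlt : s.2 < acc.length
        · rw [List.getD_eq_getElem _ _ hlt]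
          exact h _ (List.getElem_mem hlt)
        · rw [List.getD_eq_default _ _ (by omega)]
          exact h1
      rw [hy]
      split
      · exact hL _ hg
      · exact hU _ hg

theorem T0_ind (P : Q → Prop) (h1 : P (1, 0, 0, 1)) (hL : ∀ x, P x → P (Lm x)) (hU : ∀ x, P x → P (Um x)) :
    ∀ x ∈ T0, P x := by
  rw [← T0_eq]
  exact foldl_ind P h1 hL hU _ _ (by simpa using h1)

variable {F : Type*} [Field F]

/-- decoding -/
def f9 (lam : F) (a : ℕ) : F := ((a % 3 : ℕ) : F) + ((a / 3 : ℕ) : F) * lam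

theorem cast_mod3 (h3 : (3 : F) = 0) (n : ℕ) : ((n % 3 : ℕ) : F) = (n : F) := by
  conv_rhs => rw [← Nat.mod_add_div n 3]
  push_cast
  rw [h3]; ring

theorem div_aux (r i : ℕ) : (r % 3 + 3 * (i % 3)) % 3 = r % 3 ∧ (r % 3 + 3 * (i % 3)) / 3 = i % 3 := by omega

theorem f9_a9 (h3 : (3 : F) = 0) (lam : F) (a b : ℕ) : f9 lam (a9 a b) = f9 lam a + f9 lam b := by
  rw [f9, a9, (div_aux _ _).1, (div_aux _ _).2, cast_mod3 h3, cast_mod3 h3, f9, f9]
  push_cast
  ring

theorem f9_m9 (h3 : (3 : F) = 0) {lam : F} (hl : lam ^ 2 = -1) (a b : ℕ) : f9 lam (m9 a b) = f9 lam a * f9 lam b := by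
  rw [f9, m9, (div_aux _ _).1, (div_aux _ _).2, cast_mod3 h3, cast_mod3 h3, f9, f9]
  push_cast
  linear_combination (-((a / 3 : ℕ) : F) * ((b / 3 : ℕ) : F)) * hl + ((a / 3 : ℕ) : F) * ((b / 3 : ℕ) : F) * h3

theorem f9_inj (h3 : (3 : F) = 0) {lam : F} (hl : lam ^ 2 = -1) {a b : ℕ} (ha : a < 9) (hb : b < 9)
    (h : f9 lam a = f9 lam b) : a = b := by
  have h10 : (1 : F) ≠ 0 := one_ne_zero
  have h20 : (2 : F) ≠ 0 := fun h => h10 (by linear_combination h3 - h)
  have key : ∀ x y : F, (x = 0 ∨ x = 1 ∨ x = -1) → (y = 0 ∨ y = 1 ∨ y = -1) → x = y * lam → x = 0 ∧ y = 0 := by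
    rintro x y hx (rfl | rfl | rfl) hxy
    · exact ⟨by rw [hxy, zero_mul], rfl⟩
    · exfalso
      have h5 : x ^ 2 = -1 := by rw [hxy]; linear_combination hl
      rcases hx with rfl | rfl | rfl
      · exact h10 (by linear_combination h5)
      · exact h20 (by linear_combination h5)
      · exact h20 (by linear_combination h5)
    · exfalso
      have h5 : x ^ 2 = -1 := by rw [hxy]; linear_combination hl
      rcases hx with rfl | rfl | rfl
      · exact h10 (by linear_combination h5)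
      · exact h20 (by linear_combination h5)
      · exact h20 (by linear_combination h5)
  have hc : ∀ m n : ℕ, m < 3 → n < 3 → ((m : F) - (n : F) = 0 ∨ (m : F) - (n : F) = 1 ∨ (m : F) - (n : F) = -1) := by
    intro m n hm hn
    interval_cases m <;> interval_cases n <;> push_cast
    · left; ring
    · right; right; ring
    · right; left; linear_combination -h3
    · right; left; ring
    · left; ring
    · right; right; ring
    · right; right; linear_combination h3
    · right; left; ring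
    · left; ring
  have hz : ∀ m n : ℕ, m < 3 → n < 3 → (m : F) - (n : F) = 0 → m = n := by
    intro m n hm hn h
    interval_cases m <;> interval_cases n <;> push_cast at h <;> first | rfl | exfalso
    · exact h10 (by linear_combination -h)
    · exact h20 (by linear_combination -h)
    · exact h10 (by linear_combination h)
    · exact h10 (by linear_combination -h)
    · exact h20 (by linear_combination h)
    · exact h10 (by linear_combination h)
  have e : (((a % 3 : ℕ) : F) - ((b % 3 : ℕ) : F)) = (((b / 3 : ℕ) : F) - ((a / 3 : ℕ) : F)) * lam := by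
    rw [f9, f9] at h
    linear_combination h
  obtain ⟨h5, h6⟩ := key _ _ (hc _ _ (by omega) (by omega)) (hc _ _ (by omega) (by omega)) e
  have h7 := hz _ _ (by omega) (by omega) h5
  have h8 := hz _ _ (by omega) (by omega) h6
  omega

/-- decoding of matrices -/
def dec (lam : F) (x : Q) : Matrix (Fin 2) (Fin 2) F := !![f9 lam x.1, f9 lam x.2.1; f9 lam x.2.2.1, f9 lam x.2.2.2]

theorem dec_one (lam : F) : dec lam (1, 0, 0, 1) = 1 := by
  have h0 : f9 lam 0 = 0 := by simp [f9]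
  have h1 : f9 lam 1 = 1 := by simp [f9]
  rw [dec]
  simp only [h0, h1]
  ext i j; fin_cases i <;> fin_cases j <;> simp

theorem dec_Lm (h3 : (3 : F) = 0) (lam : F) (x : Q) : dec lam (Lm x) = (yy (1 : F)).1 * dec lam x := by
  rw [dec, Lm, dec, yy_val]
  simp only [f9_a9 h3]
  ext i j; fin_cases i <;> fin_cases j <;> simp [Matrix.mul_apply, Fin.sum_univ_two]

theorem dec_Um (h3 : (3 : F) = 0) {lam : F} (hl : lam ^ 2 = -1) (x : Q) : dec lam (Um x) = (xx lam).1 * dec lam x := by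
  have h33 : f9 lam 3 = lam := by simp [f9]
  rw [dec, Um, dec, xx_val]
  simp only [f9_a9 h3, f9_m9 h3 hl, h33]
  ext i j; fin_cases i <;> fin_cases j <;> simp [Matrix.mul_apply, Fin.sum_univ_two]

theorem mem_of_contains {x : Q} (h : T0.contains x = true) : x ∈ T0 := by
  rw [List.contains_iff_mem] at h
  exact h

/-- the exceptional group of order 120 -/
theorem card_exc [Finite F] (h3 : (3 : F) = 0) {lam : F} (hl : lam ^ 2 = -1) (S : Set (SpecialLinearGroup (Fin 2) F))
    (hS : ∀ g, g ∈ S ↔ g = yy 1 ∨ g = xx lam) : Nat.card (Subgroup.closure S) = 120 := by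
  classical
  have hcl := T0_closed
  rw [List.all_eq_true] at hcl
  -- the decoding map
  have hA : ∀ x ∈ T0, ∃ g ∈ Subgroup.closure S, g.1 = dec lam x := by
    apply T0_ind (fun x => ∃ g ∈ Subgroup.closure S, g.1 = dec lam x)
    · exact ⟨1, Subgroup.one_mem _, by rw [dec_one]; rfl⟩
    · rintro x ⟨g, hg, hgx⟩
      refine ⟨yy 1 * g, Subgroup.mul_mem _ (Subgroup.subset_closure ((hS _).2 (Or.inl rfl))) hg, ?_⟩
      rw [dec_Lm h3, ← hgx, slMul_val]
    · rintro x ⟨g, hg, hgx⟩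
      refine ⟨xx lam * g, Subgroup.mul_mem _ (Subgroup.subset_closure ((hS _).2 (Or.inr rfl))) hg, ?_⟩
      rw [dec_Um h3 hl, ← hgx, slMul_val]
  have hB : ∀ g ∈ Subgroup.closure S, ∃ x ∈ T0, g.1 = dec lam x := by
    intro g hg
    have hg' : g ∈ Submonoid.closure S := by
      rw [← Subgroup.closure_toSubmonoid_of_finite]
      exact hg
    induction hg' using Submonoid.closure_induction_left with
    | one => exact ⟨(1, 0, 0, 1), mem_of_contains T0_one, by rw [dec_one]; rfl⟩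
    | mul_left s hs y hy ih =>
      obtain ⟨x, hx, hyx⟩ := ih (by
        rw [← Subgroup.mem_toSubmonoid, Subgroup.closure_toSubmonoid_of_finite]; exact hy)
      have h5 := hcl x hx
      rw [Bool.and_eq_true] at h5
      rcases (hS s).1 hs with rfl | rfl
      · exact ⟨Lm x, mem_of_contains h5.1, by rw [dec_Lm h3, ← hyx, slMul_val]⟩
      · exact ⟨Um x, mem_of_contains h5.2, by rw [dec_Um h3 hl, ← hyx, slMul_val]⟩
  have hbd := T0_bd
  rw [List.all_eq_true] at hbd
  have hinj : ∀ x ∈ T0, ∀ y ∈ T0, dec lam x = dec lam y → x = y := by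
    intro x hx y hy hxy
    have h5 := hbd x hx
    have h6 := hbd y hy
    simp only [Bool.and_eq_true, decide_eq_true_eq] at h5 h6
    obtain ⟨x1, x2, x3, x4⟩ := x
    obtain ⟨y1, y2, y3, y4⟩ := y
    simp only at h5 h6
    have e00 := congrFun (congrFun hxy 0) 0
    have e01 := congrFun (congrFun hxy 0) 1
    have e10 := congrFun (congrFun hxy 1) 0
    have e11 := congrFun (congrFun hxy 1) 1
    simp only [dec, Matrix.of_apply, Matrix.cons_val', Matrix.cons_val_zero, Matrix.cons_val_one,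
      Matrix.cons_val_fin_one] at e00 e01 e10 e11
    rw [f9_inj h3 hl h5.1.1.1 h6.1.1.1 e00, f9_inj h3 hl h5.1.1.2 h6.1.1.2 e01,
      f9_inj h3 hl h5.1.2 h6.1.2 e10, f9_inj h3 hl h5.2 h6.2 e11]
  -- the bijection
  have hcard : Nat.card (Subgroup.closure S) = Nat.card {x // x ∈ T0.toFinset} := by
    symm
    choose f hf1 hf2 using hA
    refine Nat.card_congr (Equiv.ofBijective (fun x : {x // x ∈ T0.toFinset} =>
      (⟨f x.1 (List.mem_toFinset.1 x.2), hf1 _ _⟩ : Subgroup.closure S)) ⟨?_, ?_⟩)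
    · intro x y hxy
      have h5 : f x.1 (List.mem_toFinset.1 x.2) = f y.1 (List.mem_toFinset.1 y.2) := congrArg Subtype.val hxy
      apply Subtype.ext
      apply hinj _ (List.mem_toFinset.1 x.2) _ (List.mem_toFinset.1 y.2)
      rw [← hf2 _ (List.mem_toFinset.1 x.2), ← hf2 _ (List.mem_toFinset.1 y.2), h5]
    · rintro ⟨g, hg⟩
      obtain ⟨x, hx, hgx⟩ := hB g hg
      refine ⟨⟨x, List.mem_toFinset.2 hx⟩, ?_⟩
      apply Subtype.ext
      apply slExt
      change (f x _).1 = g.1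
      rw [hf2, hgx]
  rw [hcard, Nat.card_eq_fintype_card, Fintype.card_coe, List.toFinset_card_of_nodup T0_nodup, T0_len]

end Cfsg.Agent.H98.Dick9
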