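import Cfsg.Agent.H81.Dickson

set_option autoImplicit false

namespace Cfsg.Agent.H98.DickRoot

open Matrix LinearAlgebra.Projectivization Projectivization Cfsg.Agent.H81
open scoped Pointwise

variable {F : Type*} [Field F]

theorem xx_add (a c : F) : xx (a + c) = xx a * xx c := by
  apply slExt
  rw [slMul_val, xx_val, xx_val, xx_val]
  ext i j; fin_cases i <;> fin_cases j <;> simp [Matrix.mul_apply, Fin.sum_univ_two, add_comm]

theorem xx_neg (a : F) : xx (-a) = (xx a)⁻¹ := by
  apply slExt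
  rw [slInv_val, xx_val, xx_val]
  simp [Matrix.adjugate_fin_two]

theorem xx_zero : xx (0 : F) = 1 := by
  apply slExt
  rw [xx_val, slOne_val]
  ext i j; fin_cases i <;> fin_cases j <;> simp

theorem yy_add (a c : F) : yy (a + c) = yy a * yy c := by
  apply slExt
  rw [slMul_val, yy_val, yy_val, yy_val]
  ext i j; fin_cases i <;> fin_cases j <;> simp [Matrix.mul_apply, Fin.sum_univ_two, add_comm]

theorem yy_neg (a : F) : yy (-a) = (yy a)⁻¹ := by
  apply slExt
  rw [slInv_val, yy_val, yy_val]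
  simp [Matrix.adjugate_fin_two]

theorem yy_zero : yy (0 : F) = 1 := by
  apply slExt
  rw [yy_val, slOne_val]
  ext i j; fin_cases i <;> fin_cases j <;> simp

theorem yy_injective : Function.Injective (yy : F → SpecialLinearGroup (Fin 2) F) := by
  intro a b h
  have h1 : (yy a).1 = (yy b).1 := congrArg Subtype.val h
  rw [yy_val, yy_val] at h1
  have := congrFun (congrFun h1 1) 0
  simpa using this

variable [Finite F] (p : ℕ) [Fact p.Prime] [CharP F p]

include p in
omit [Finite F] in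
/-- an additive subgroup of `F` is closed under halving -/
theorem half_mem (hp : p ≠ 2) (A : AddSubgroup F) {x : F} (h : x + x ∈ A) : x ∈ A := by
  have hodd : Odd p := (Fact.out : p.Prime).odd_of_ne_two hp
  obtain ⟨k, hk⟩ := hodd
  have h1 : (k + 1) • (x + x) = x := by
    have hpx : (p : F) = 0 := CharP.cast_eq_zero F p
    rw [nsmul_eq_mul]
    rw [hk] at hpx
    push_cast at hpx ⊢
    linear_combination x * hpx
  rw [← h1]
  exact A.nsmul_mem h _

/-- Hua-type argument: an additive subgroup `A ∋ 1` of a finite field of odd characteristic such that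
`(a⁻¹ - c⁻¹)⁻¹ ∈ A` for distinct nonzero `a, c ∈ A` is a subfield -/
theorem hua (hp : p ≠ 2) (A : AddSubgroup F) (h1 : (1 : F) ∈ A)
    (hA : ∀ a c, a ∈ A → c ∈ A → a ≠ 0 → c ≠ 0 → a ≠ c → (a⁻¹ - c⁻¹)⁻¹ ∈ A) :
    ∃ K : Subfield F, ∀ a, a ∈ K ↔ a ∈ A := by
  have hsq : ∀ a ∈ A, a * a ∈ A := by
    intro a ha
    by_cases ha0 : a = 0
    · subst ha0; rwa [mul_zero]
    by_cases ha1 : a + 1 = 0
    · have : a = -1 := by linear_combination ha1
      rw [this]; simp [h1]
    have h2 := hA a (a + 1) ha (A.add_mem ha h1) ha0 ha1 (by intro h; exact one_ne_zero (α := F) (by linear_combination -h))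
    have h3 : (a⁻¹ - (a + 1)⁻¹)⁻¹ = a * (a + 1) := by
      field_simp
      ring
    rw [h3] at h2
    have h4 : a * a = a * (a + 1) - a := by ring
    rw [h4]
    exact A.sub_mem h2 ha
  have hmul : ∀ a ∈ A, ∀ c ∈ A, a * c ∈ A := by
    intro a ha c hc
    apply half_mem p hp
    have : a * c + a * c = (a + c) * (a + c) - a * a - c * c := by ring
    rw [this]
    exact A.sub_mem (A.sub_mem (hsq _ (A.add_mem ha hc)) (hsq a ha)) (hsq c hc)
  have hpow : ∀ a ∈ A, ∀ n : ℕ, a ^ n ∈ A := by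
    intro a ha n
    induction n with
    | zero => simpa using h1
    | succ n ih => rw [pow_succ]; exact hmul _ ih _ ha
  suffices hinv : ∀ a ∈ A, a⁻¹ ∈ A from
    ⟨{ carrier := A
       mul_mem' := fun {a c} ha hc => hmul a ha c hc
       one_mem' := h1
       add_mem' := fun {a c} ha hc => A.add_mem ha hc
       zero_mem' := A.zero_mem
       neg_mem' := fun {a} ha => A.neg_mem ha
       inv_mem' := fun a ha => hinv a ha }, fun a => Iff.rfl⟩
  intro a ha
  have : Fintype F := Fintype.ofFinite F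
  classical
  by_cases ha0 : a = 0
  · subst ha0; simpa using ha
  have h2 : a ^ (Fintype.card F - 1) = 1 := FiniteField.pow_card_sub_one_eq_one a ha0
  have hc : 2 ≤ Fintype.card F := Fintype.one_lt_card
  have h3 : a * a ^ (Fintype.card F - 2) = 1 := by
    rw [← pow_succ', show Fintype.card F - 2 + 1 = Fintype.card F - 1 by omega, h2]
  rw [← eq_inv_of_mul_eq_one_right h3]
  exact hpow a ha _


section sets
variable (G : Subgroup (SpecialLinearGroup (Fin 2) F))

/-- parameters of the upper unipotent elements -/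
def AX : AddSubgroup F where
  carrier := {a | xx a ∈ G}
  add_mem' := fun {a c} ha hc => by
    change xx (a + c) ∈ G
    rw [xx_add]; exact G.mul_mem ha hc
  zero_mem' := by change xx 0 ∈ G; rw [xx_zero]; exact G.one_mem
  neg_mem' := fun {a} ha => by
    change xx (-a) ∈ G
    rw [xx_neg]; exact G.inv_mem ha

/-- parameters of the lower unipotent elements -/
def BY : AddSubgroup F where
  carrier := {a | yy a ∈ G}
  add_mem' := fun {a c} ha hc => by
    change yy (a + c) ∈ G
    rw [yy_add]; exact G.mul_mem ha hc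
  zero_mem' := by change yy 0 ∈ G; rw [yy_zero]; exact G.one_mem
  neg_mem' := fun {a} ha => by
    change yy (-a) ∈ G
    rw [yy_neg]; exact G.inv_mem ha

/-- affine Sylow points -/
def SP : Set F := {z | ptz F z ∈ SylPt G}

omit [Finite F] in
theorem mem_AX {a : F} : a ∈ AX G ↔ xx a ∈ G := Iff.rfl
omit [Finite F] in
theorem mem_BY {a : F} : a ∈ BY G ↔ yy a ∈ G := Iff.rfl
omit [Finite F] in
theorem mem_SP {a : F} : a ∈ SP G ↔ ptz F a ∈ SylPt G := Iff.rfl

theorem card_SP (hS0 : pt0 F ∈ SylPt G) : Nat.card (SylPt G) = (SP G).ncard + 1 := by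
  have hSyl : SylPt G = insert (pt0 F) (ptz F '' SP G) := by
    ext x
    constructor
    · intro hx
      rcases eq_pt0_or_ptz x with rfl | ⟨z, rfl⟩
      · left; rfl
      · right; exact ⟨z, hx, rfl⟩
    · rintro (rfl | ⟨z, hz, rfl⟩)
      · exact hS0
      · exact hz
  change (SylPt G).ncard = _
  rw [hSyl, Set.ncard_insert_of_notMem _ (Set.toFinite _), Set.ncard_image_of_injective _ ptz_injective]
  rintro ⟨z, _, hz⟩
  exact pt0_ne_ptz z hz.symm

omit [Finite F] in
theorem card_AX : Nat.card (PG G (pt0 F)) = (AX G : Set F).ncard := by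
  symm
  refine Nat.card_congr (Equiv.ofBijective (fun a : (AX G : Set F) =>
    (⟨⟨xx a.1, a.2⟩, (mem_PG G).2 (mem_Tpt_pt0.2 ⟨a.1, rfl⟩)⟩ : PG G (pt0 F))) ⟨?_, ?_⟩)
  · intro a c hac
    apply Subtype.ext
    have h3 : (xx a.1 : SpecialLinearGroup (Fin 2) F) = xx c.1 := congrArg (fun z => z.1.1) hac
    exact xx_injective h3
  · rintro ⟨⟨g, hg⟩, hgP⟩
    obtain ⟨a, ha⟩ := mem_Tpt_pt0.1 ((mem_PG G).1 hgP)
    change g = xx a at ha
    subst ha
    exact ⟨⟨a, hg⟩, rfl⟩

omit [Finite F] in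
theorem card_BY : Nat.card (PG G (ptz F 0)) = (BY G : Set F).ncard := by
  symm
  refine Nat.card_congr (Equiv.ofBijective (fun a : (BY G : Set F) =>
    (⟨⟨yy a.1, a.2⟩, (mem_PG G).2 (mem_Tpt_ptz0 a.1)⟩ : PG G (ptz F 0))) ⟨?_, ?_⟩)
  · intro a c hac
    apply Subtype.ext
    have h3 : (yy a.1 : SpecialLinearGroup (Fin 2) F) = yy c.1 := congrArg (fun z => z.1.1) hac
    exact yy_injective h3
  · rintro ⟨⟨g, hg⟩, hgP⟩
    have hv' : g ∈ Tsl (![0, 1] : Fin 2 → F) := by
      have := (mem_PG G).1 hgP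
      rw [ptz, Tpt_mk] at this
      exact this
    rw [mem_Tsl] at hv'
    have e0 := congrFun hv' 0
    have e1 := congrFun hv' 1
    simp [Matrix.mulVec, dotProduct, Fin.sum_univ_two] at e0 e1
    have hdet := g.2
    rw [Matrix.det_fin_two, e0, e1, mul_one, zero_mul, sub_zero] at hdet
    have hgy : g = yy (g.1 1 0) := by
      apply slExt
      rw [yy_val]
      ext i j; fin_cases i <;> fin_cases j
      · simpa using hdet
      · simpa using e0
      · simp
      · simpa using e1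
    refine ⟨⟨g.1 1 0, ?_⟩, ?_⟩
    · change yy (g.1 1 0) ∈ G
      rw [← hgy]; exact hg
    · apply Subtype.ext
      apply Subtype.ext
      exact hgy.symm

omit [Finite F] in
theorem SP_add {z a : F} (hz : z ∈ SP G) (ha : a ∈ AX G) : z + a ∈ SP G := by
  have h3 := sylPt_smul G ⟨xx a, ha⟩ hz
  change xx a • ptz F z ∈ SylPt G at h3
  rw [xx_smul_ptz] at h3
  exact h3

omit [Finite F] in
theorem inv_mem_SP (hS0 : pt0 F ∈ SylPt G) {c : F} (hc : c ∈ BY G) (hc0 : c ≠ 0) : c⁻¹ ∈ SP G := by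
  have h3 := sylPt_smul G ⟨yy c, hc⟩ hS0
  change yy c • pt0 F ∈ SylPt G at h3
  rw [yy_smul_pt0 hc0] at h3
  exact h3

include p in
theorem card_AX_eq (hS0 : pt0 F ∈ SylPt G) (hS1 : ptz F 0 ∈ SylPt G) :
    (AX G : Set F).ncard = (BY G : Set F).ncard := by
  rw [← card_AX, ← card_BY]
  exact card_PG_eq p G hS0 hS1

include p in
/-- the regular case -/
theorem case_one (hp : p ≠ 2) (hS0 : pt0 F ∈ SylPt G) (hS1 : ptz F 0 ∈ SylPt G) (h1 : (1 : F) ∈ AX G)
    (hc : Nat.card (SylPt G) = Nat.card (PG G (pt0 F)) + 1) :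
    ∃ K : Subfield F, (∀ a, a ∈ AX G ↔ a ∈ K) ∧ (∀ a, a ∈ BY G ↔ a ∈ K) := by
  have hAS : (AX G : Set F) ⊆ SP G := by
    intro a ha
    have := SP_add G (z := 0) hS1 ha
    rwa [zero_add] at this
  have hAS' : (AX G : Set F) = SP G := by
    apply Set.eq_of_subset_of_ncard_le hAS _ (Set.toFinite _)
    rw [card_SP G hS0, card_AX] at hc
    omega
  have hBA : ∀ c ∈ BY G, c ≠ 0 → c⁻¹ ∈ AX G := by
    intro c hc hc0
    have := inv_mem_SP G hS0 hc hc0
    rw [← hAS'] at this
    exact this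
  have hABi : ∀ a ∈ AX G, a ≠ 0 → a⁻¹ ∈ BY G := by
    have h3 : (fun x : F => x⁻¹) '' ((BY G : Set F) \ {0}) = (AX G : Set F) \ {0} := by
      apply Set.eq_of_subset_of_ncard_le _ _ (Set.toFinite _)
      · rintro _ ⟨c, ⟨hc, hc0⟩, rfl⟩
        exact ⟨hBA c hc hc0, inv_ne_zero hc0⟩
      · rw [Set.ncard_image_of_injective _ inv_injective, Set.ncard_sdiff_singleton_of_mem (BY G).zero_mem,
          Set.ncard_sdiff_singleton_of_mem (AX G).zero_mem, card_AX_eq p G hS0 hS1]
    intro a ha ha0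
    have h4 : a ∈ (AX G : Set F) \ {0} := ⟨ha, ha0⟩
    rw [← h3] at h4
    obtain ⟨c, ⟨hc, _⟩, rfl⟩ := h4
    change (c⁻¹)⁻¹ ∈ BY G
    rw [inv_inv]; exact hc
  obtain ⟨K, hK⟩ := hua p hp (AX G) h1 (by
    intro a c ha hc' ha0 hc0 hac
    apply hBA
    · exact (BY G).sub_mem (hABi a ha ha0) (hABi c hc' hc0)
    · intro h
      exact hac (inv_injective (sub_eq_zero.1 h)))
  refine ⟨K, fun a => (hK a).symm, fun a => ?_⟩
  by_cases ha0 : a = 0
  · subst ha0; exact ⟨fun _ => K.zero_mem, fun _ => (BY G).zero_mem⟩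
  constructor
  · intro h
    have := (hK _).2 (hBA a h ha0)
    have h5 := K.inv_mem this
    rwa [inv_inv] at h5
  · intro h
    have h5 := hABi _ ((hK _).1 (K.inv_mem h)) (inv_ne_zero ha0)
    rwa [inv_inv] at h5

end sets

section ten
variable (G : Subgroup (SpecialLinearGroup (Fin 2) F))

omit [Finite F] in
theorem cast_three (h30 : CharP F 3) : ∀ i : ZMod 3, ZMod.castHom (dvd_refl 3) F i = 0 ∨
    ZMod.castHom (dvd_refl 3) F i = 1 ∨ ZMod.castHom (dvd_refl 3) F i = -1 := by
  intro i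
  rcases zm3_cases i with rfl | rfl | rfl
  · left; exact map_zero _
  · right; left; exact map_one _
  · right; right; rw [map_neg, map_one]

omit [Finite F] in
theorem nine_injective (h30 : CharP F 3) {β : F} (hβ0 : β ≠ 0) (hb1 : β ≠ 1) (hb2 : β ≠ -1) :
    Function.Injective (fun ij : ZMod 3 × ZMod 3 =>
      ZMod.castHom (dvd_refl 3) F ij.1 * β + ZMod.castHom (dvd_refl 3) F ij.2) := by
  have hcast := cast_three h30
  rintro ⟨i, j⟩ ⟨i', j'⟩ hij
  simp only at hij
  have h5 : ZMod.castHom (dvd_refl 3) F (i - i') * β = ZMod.castHom (dvd_refl 3) F (j' - j) := by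
    rw [map_sub, map_sub]; linear_combination hij
  have hinj : Function.Injective (ZMod.castHom (dvd_refl 3) F) := (ZMod.castHom (dvd_refl 3) F).injective
  have h6 : i - i' = 0 := by
    by_contra hne
    have h7 : ZMod.castHom (dvd_refl 3) F (i - i') ≠ 0 := fun h => hne (hinj (by rw [h, map_zero]))
    rcases hcast (i - i') with h8 | h8 | h8
    · exact h7 h8
    · rw [h8, one_mul] at h5
      rcases hcast (j' - j) with h9 | h9 | h9 <;> rw [h9] at h5
      · exact hβ0 h5
      · exact hb1 h5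
      · exact hb2 h5
    · rw [h8] at h5
      rcases hcast (j' - j) with h9 | h9 | h9 <;> rw [h9] at h5
      · exact hβ0 (by linear_combination -h5)
      · exact hb2 (by linear_combination -h5)
      · exact hb1 (by linear_combination -h5)
  rw [h6, map_zero, zero_mul] at h5
  have h10 : j' - j = 0 := hinj (by rw [← h5, map_zero])
  rw [sub_eq_zero.1 h6, sub_eq_zero.1 h10]

omit [Finite F] in
theorem quad_cases (h30 : (3 : F) = 0) {β : F} (hβ0 : β ≠ 0) (hb1 : β ≠ 1) (_hb2 : β ≠ -1) {i j : F}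
    (hi : i = 0 ∨ i = 1 ∨ i = -1) (hj : j = 0 ∨ j = 1 ∨ j = -1)
    (h6 : β = (i * β + j) * (1 + β)) : β ^ 2 = -1 ∨ β ^ 2 = β + 1 ∨ β ^ 2 = -β + 1 := by
  rcases hi with rfl | rfl | rfl <;> rcases hj with rfl | rfl | rfl
  · exact absurd (by linear_combination h6) hβ0
  · exfalso
    exact one_ne_zero (α := F) (by linear_combination -h6)
  · exfalso
    apply hb1
    linear_combination (-1 : F) * h6 + β * h30
  · exfalso
    have : β * β = 0 := by linear_combination -h6
    exact hβ0 (mul_self_eq_zero.1 this)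
  · exfalso
    have : (β - 1) * (β - 1) = 0 := by linear_combination -h6 - β * h30
    exact hb1 (sub_eq_zero.1 (mul_self_eq_zero.1 this))
  · right; left
    linear_combination -h6
  · exfalso
    have : β * (β - 1) = 0 := by linear_combination h6 - β * h30
    rcases mul_eq_zero.1 this with h5 | h5
    · exact hβ0 h5
    · exact hb1 (sub_eq_zero.1 h5)
  · right; right
    linear_combination h6
  · left
    linear_combination h6 - β * h30

include p in
/-- exclusion of elements of order 8 in the exceptional case -/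
theorem no_eight (h30 : (3 : F) = 0) (hS0 : pt0 F ∈ SylPt G)
    (hA : ∀ a, a ∈ AX G → (a = 0 ∨ a = 1 ∨ a = -1)) (h1 : (1 : F) ∈ AX G) {c : F} (hc : c ∈ BY G)
    (hτ : (c - 1) ^ 2 = -1) (hz : (1 - c) ∈ SP G) : False := by
  set g : SpecialLinearGroup (Fin 2) F := xx 1 * yy c with hg
  have hgG : g ∈ G := G.mul_mem h1 hc
  have hgval : g.1 = !![1 + c, 1; c, 1] := by
    rw [hg, slMul_val, xx_val, yy_val]
    ext i j; fin_cases i <;> fin_cases j <;> simp [Matrix.mul_apply, Fin.sum_univ_two]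
  have htr : g.1.trace = c - 1 := by
    rw [hgval, Matrix.trace_fin_two_of]
    linear_combination h30
  -- fixed point
  have hfix : g • ptz F (1 - c) = ptz F (1 - c) := by
    have e1 : yy c • ptz F (1 - c) = ptz F (-c) := by
      apply yy_smul_ptz
      linear_combination (-c - 1) * hτ + h30
    rw [hg, mul_smul, e1, xx_smul_ptz]
    congr 1
    ring
  obtain ⟨h, hh⟩ := sylPt_transitive p G hS0 (show ptz F (1 - c) ∈ SylPt G from hz)
  set k : SpecialLinearGroup (Fin 2) F := h.1⁻¹ * g * h.1 with hk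
  have hkG : k ∈ G := G.mul_mem (G.mul_mem (G.inv_mem h.2) hgG) h.2
  have hkfix : k • pt0 F = pt0 F := by
    rw [hk, mul_smul, mul_smul, hh, hfix, ← hh, inv_smul_smul]
  have hktr : k.1.trace = c - 1 := by
    rw [← htr, hk, slMul_val, slMul_val, Matrix.trace_mul_comm, ← Matrix.mul_assoc, ← slMul_val,
      mul_inv_cancel, slOne_val, Matrix.one_mul]
  have hk10 : k.1 1 0 = 0 := by
    rw [sl_smul_pt] at hkfix
    exact (fix_pt0_iff _).1 hkfix
  have hdet := k.2
  rw [Matrix.det_fin_two, hk10, mul_zero, sub_zero] at hdet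
  rw [Matrix.trace_fin_two] at hktr
  have hx : k * xx 1 * k⁻¹ = xx (k.1 0 0 * k.1 0 0) := by
    apply slExt
    rw [slMul_val, slMul_val, slInv_val, xx_val, xx_val]
    ext i j; fin_cases i <;> fin_cases j <;>
      simp [Matrix.mul_apply, Fin.sum_univ_two, Matrix.adjugate_fin_two, hk10]
    · exact hdet
    · ring
    · rw [mul_comm]; exact hdet
  have hmem : k.1 0 0 * k.1 0 0 ∈ AX G := by
    rw [mem_AX, ← hx]
    exact G.mul_mem (G.mul_mem hkG h1) (G.inv_mem hkG)
  set u := k.1 0 0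
  set w := k.1 1 1
  rcases hA _ hmem with h3 | h3 | h3
  · have : u = 0 := mul_self_eq_zero.1 h3
    rw [this, zero_mul] at hdet
    exact zero_ne_one hdet
  · -- `u² = 1`, so `τ² = 4 = 1`
    have hw : w = u := by linear_combination (-w) * h3 + u * hdet
    have h5 : (1 : F) = -1 := by
      rw [← hτ, ← hktr, hw]
      linear_combination (-4 : F) * h3 - h30
    exact one_ne_zero (α := F) (by linear_combination (-1 : F) * h5 + h30)
  · have hw : w = -u := by linear_combination (w) * h3 - u * hdet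
    rw [← hktr, hw] at hτ
    exact one_ne_zero (α := F) (by linear_combination hτ)

end ten

section main

/-- the exceptional case -/
theorem case_ten [CharP F 3] (G : Subgroup (SpecialLinearGroup (Fin 2) F)) {b : F} (hb : b ≠ 0)
    (hS0 : pt0 F ∈ SylPt G) (hS1 : ptz F 0 ∈ SylPt G) (h1A : (1 : F) ∈ AX G) (hyb : b ∈ BY G)
    (hc3 : Nat.card (PG G (pt0 F)) = 3) (hc10 : Nat.card (SylPt G) = 10) :
    (∃ K : Subfield F, (∀ a, a ∈ AX G ↔ a ∈ K) ∧ (∀ a, a ∈ BY G ↔ a ∈ K)) ∨
    (b ^ 2 = -1 ∧ ∀ a, a ∈ AX G ↔ (a = 0 ∨ a = 1 ∨ a = -1)) := by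
  have h30 : (3 : F) = 0 := by
    have := CharP.cast_eq_zero F 3
    exact_mod_cast this
  have h20 : (2 : F) ≠ 0 := fun h => one_ne_zero (α := F) (by linear_combination h30 - h)
  have hF3 : Fact (Nat.Prime 3) := ⟨Nat.prime_three⟩
  have hm1A : (-1 : F) ∈ AX G := (AX G).neg_mem h1A
  have h1m1 : (1 : F) ≠ -1 := fun h => h20 (by linear_combination h)
  have hA3 : (AX G : Set F) = {0, 1, -1} := by
    symm
    apply Set.eq_of_subset_of_ncard_le _ _ (Set.toFinite _)
    · rintro a (rfl | rfl | rfl)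
      · exact (AX G).zero_mem
      · exact h1A
      · exact hm1A
    · rw [← card_AX, hc3, Set.ncard_insert_of_notMem, Set.ncard_pair h1m1]
      rintro (h | h)
      · exact zero_ne_one h
      · have h' : (0 : F) = -1 := h
        exact one_ne_zero (α := F) (by linear_combination h')
  have hB3 : (BY G : Set F) = {0, b, -b} := by
    symm
    apply Set.eq_of_subset_of_ncard_le _ _ (Set.toFinite _)
    · rintro a (rfl | rfl | rfl)
      · exact (BY G).zero_mem
      · exact hyb
      · exact (BY G).neg_mem hyb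
    · rw [← card_AX_eq 3 G hS0 hS1, ← card_AX, hc3, Set.ncard_insert_of_notMem, Set.ncard_pair]
      · intro h
        have : (2 : F) * b = 0 := by linear_combination h
        exact (mul_ne_zero h20 hb) this
      · rintro (h | h)
        · exact hb h.symm
        · exact hb (by have h' : (0 : F) = -b := h; linear_combination h')
  have hAmem : ∀ a, a ∈ AX G ↔ (a = 0 ∨ a = 1 ∨ a = -1) := by
    intro a
    have : a ∈ AX G ↔ a ∈ (AX G : Set F) := Iff.rfl
    rw [this, hA3]
    simp
  have hBmem : ∀ a, a ∈ BY G ↔ (a = 0 ∨ a = b ∨ a = -b) := by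
    intro a
    have : a ∈ BY G ↔ a ∈ (BY G : Set F) := Iff.rfl
    rw [this, hB3]
    simp
  set β := b⁻¹ with hβ
  have hβb : β * b = 1 := inv_mul_cancel₀ hb
  have hβ0 : β ≠ 0 := inv_ne_zero hb
  have hbinv : β ∈ SP G := inv_mem_SP G hS0 hyb hb
  have hnegb : -β ∈ SP G := by
    have h3 := inv_mem_SP G hS0 ((BY G).neg_mem hyb) (neg_ne_zero.2 hb)
    rwa [inv_neg] at h3
  by_cases hb01 : β = 1 ∨ β = -1
  · -- then `b = ±1` and the subfield is the prime field
    left
    have hb' : b = 1 ∨ b = -1 := by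
      rcases hb01 with h | h
      · left; rw [h, one_mul] at hβb; exact hβb
      · right; rw [h] at hβb; linear_combination -hβb
    obtain ⟨K, hK⟩ := hua 3 (by decide) (AX G) h1A (by
      intro a c ha hc ha0 hc0 hac
      have e1 : (1 : F)⁻¹ - (-1)⁻¹ = -1 := by
        rw [inv_neg, inv_one]; linear_combination h30
      have e2 : ((-1 : F))⁻¹ - (1)⁻¹ = 1 := by
        rw [inv_neg, inv_one]; linear_combination (-1 : F) * h30
      rcases (hAmem a).1 ha with ha' | ha' | ha'
      · exact absurd ha' ha0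
      · rcases (hAmem c).1 hc with hc' | hc' | hc'
        · exact absurd hc' hc0
        · exact absurd (ha'.trans hc'.symm) hac
        · rw [ha', hc', e1, inv_neg, inv_one]; exact hm1A
      · rcases (hAmem c).1 hc with hc' | hc' | hc'
        · exact absurd hc' hc0
        · rw [ha', hc', e2, inv_one]; exact h1A
        · exact absurd (ha'.trans hc'.symm) hac)
    refine ⟨K, fun a => (hK a).symm, fun a => ?_⟩
    rw [hK, hAmem, hBmem]
    rcases hb' with rfl | rfl
    · rfl
    · simp only [neg_neg]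
      tauto
  push Not at hb01
  obtain ⟨hb1, hb2⟩ := hb01
  right
  refine ⟨?_, hAmem⟩
  -- the nine elements
  have hcast := cast_three (F := F) inferInstance
  have hfinj := nine_injective (F := F) inferInstance hβ0 hb1 hb2
  set f : ZMod 3 × ZMod 3 → F := fun ij => ZMod.castHom (dvd_refl 3) F ij.1 * β + ZMod.castHom (dvd_refl 3) F ij.2
    with hf
  have hfS : Set.range f ⊆ SP G := by
    rintro _ ⟨⟨i, j⟩, rfl⟩
    have h5 : ZMod.castHom (dvd_refl 3) F i * β ∈ SP G := by
      rcases hcast i with h6 | h6 | h6 <;> rw [h6]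
      · rw [zero_mul]; exact hS1
      · rw [one_mul]; exact hbinv
      · rw [neg_one_mul]; exact hnegb
    change ZMod.castHom (dvd_refl 3) F i * β + ZMod.castHom (dvd_refl 3) F j ∈ SP G
    apply SP_add _ h5
    rcases hcast j with h6 | h6 | h6 <;> rw [h6]
    · exact (AX G).zero_mem
    · exact h1A
    · exact hm1A
  have hfeq : Set.range f = SP G := by
    apply Set.eq_of_subset_of_ncard_le hfS _ (Set.toFinite _)
    have h5 : (Set.range f).ncard = 9 := by
      rw [← Set.image_univ, Set.ncard_image_of_injective _ hfinj, Set.ncard_univ, Nat.card_prod]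
      simp
    rw [h5]
    rw [card_SP G hS0] at hc10
    omega
  have h1β : 1 + β ≠ 0 := fun h => hb2 (by linear_combination h)
  have h1S : (1 : F) ∈ SP G := by
    have := SP_add G (z := 0) hS1 h1A
    rwa [zero_add] at this
  have h5 : β / (1 + β) ∈ SP G := by
    have h3 := sylPt_smul G ⟨yy b, hyb⟩ (x := ptz F 1) h1S
    change yy b • ptz F 1 ∈ SylPt G at h3
    rw [yy_smul_ptz (w := β / (1 + β)) (by
      field_simp
      linear_combination hβb * (-1 : F))] at h3
    exact h3
  rw [← hfeq] at h5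
  obtain ⟨⟨i, j⟩, hij⟩ := h5
  have h6 : β = (ZMod.castHom (dvd_refl 3) F i * β + ZMod.castHom (dvd_refl 3) F j) * (1 + β) := by
    have h7 : ZMod.castHom (dvd_refl 3) F i * β + ZMod.castHom (dvd_refl 3) F j = β / (1 + β) := hij
    rw [h7, div_mul_cancel₀ _ h1β]
  rcases quad_cases h30 hβ0 hb1 hb2 (hcast i) (hcast j) h6 with h7 | h7 | h7
  · have h8 : β ^ 2 * b ^ 2 = 1 := by rw [← mul_pow, hβb, one_pow]
    rw [h7] at h8
    linear_combination -h8
  · exfalso
    have hbβ : b = β - 1 := by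
      have : b * (β ^ 2 - β - 1) = 0 := by rw [h7]; ring
      linear_combination (-1 : F) * this + (β - 1) * hβb
    refine no_eight 3 G h30 hS0 (fun a ha => (hAmem a).1 ha) h1A hyb ?_ ?_
    · rw [hbβ]; linear_combination h7 - β * h30 + 2 * h30
    · rw [← hfeq]
      refine ⟨(-1, -1), ?_⟩
      simp only [hf, map_neg, map_one]
      rw [hbβ]; linear_combination (-1 : F) * h30
  · exfalso
    have hbβ : b = β + 1 := by
      have : b * (β ^ 2 + β - 1) = 0 := by rw [h7]; ring
      linear_combination (-1 : F) * this + (β + 1) * hβb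
    refine no_eight 3 G h30 hS0 (fun a ha => (hAmem a).1 ha) h1A ((BY G).neg_mem hyb) ?_ ?_
    · rw [hbβ]; linear_combination h7 + β * h30 + 2 * h30
    · rw [← hfeq]
      refine ⟨(1, -1), ?_⟩
      simp only [hf, map_neg, map_one]
      rw [hbβ]; linear_combination (-1 : F) * h30

/-- the subfield form of Dickson's theorem: odd characteristic, `x₁, y_b ∈ H`; then the root groups of
`H` are given by a subfield containing `b`, unless `p = 3`, `b² = -1` and the root group has order 3 -/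
theorem dick_sub (hp : p ≠ 2) (H : Subgroup (SpecialLinearGroup (Fin 2) F)) {b : F} (hb : b ≠ 0)
    (h1 : xx (1 : F) ∈ H) (h2 : yy b ∈ H) :
    (∃ K : Subfield F, b ∈ K ∧ (∀ a, xx a ∈ H ↔ a ∈ K) ∧ (∀ a, yy a ∈ H ↔ a ∈ K)) ∨
    ((3 : F) = 0 ∧ b ^ 2 = -1 ∧ ∀ a, xx a ∈ H ↔ (a = 0 ∨ a = 1 ∨ a = -1)) := by
  have h20 : (2 : F) ≠ 0 := two_ne_zero_of_char p hp
  set G := pmH H with hG
  have hm1 : m1 F ∈ G := m1_mem_pmH H
  have hx1 : (1 : F) ∈ AX G := le_pmH H h1
  have hyb : b ∈ BY G := le_pmH H h2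
  have hS0 : pt0 F ∈ SylPt G := sylPt_of_mem hx1 (mem_Tpt_pt0.2 ⟨1, rfl⟩) (xx_ne_one one_ne_zero)
  have hS1 : ptz F 0 ∈ SylPt G := sylPt_of_mem hyb (mem_Tpt_ptz0 b) (yy_ne_one hb)
  have hN : 2 ≤ Nat.card (SylPt G) := by
    change 2 ≤ (SylPt G).ncard
    have h5 : ({pt0 F, ptz F 0} : Set (ℙ F (Fin 2 → F))).ncard = 2 := Set.ncard_pair (pt0_ne_ptz 0)
    refine h5.symm.le.trans (Set.ncard_le_ncard ?_ (Set.toFinite _))
    rintro x (rfl | rfl)
    · exact hS0
    · exact hS1
  have hGA : ∀ a, xx a ∈ H ↔ a ∈ AX G := fun a =>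
    ⟨fun h => le_pmH H h, fun h => mem_of_mem_pmH p hp H h (mem_Tpt_pt0.2 ⟨_, rfl⟩)⟩
  have hGB : ∀ a, yy a ∈ H ↔ a ∈ BY G := fun a =>
    ⟨fun h => le_pmH H h, fun h => mem_of_mem_pmH p hp H h (mem_Tpt_ptz0 a)⟩
  rcases dickson_count p G h20 hm1 hS0 hN with hc | ⟨hc3, hc10⟩
  · obtain ⟨K, hKA, hKB⟩ := case_one p G hp hS0 hS1 hx1 hc
    left
    exact ⟨K, (hKB b).1 hyb, fun a => by rw [hGA, hKA], fun a => by rw [hGB, hKB]⟩
  · have hp3 : p = 3 := by
      obtain ⟨k, hk⟩ := (IsPGroup.iff_card.1 (isPGroup_PG p G (pt0 F)))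
      rw [hc3] at hk
      have hk0 : k ≠ 0 := by rintro rfl; simp at hk
      have : p ∣ 3 := by rw [hk]; exact dvd_pow_self p hk0
      exact (Nat.prime_dvd_prime_iff_eq (Fact.out : p.Prime) Nat.prime_three).1 this
    subst hp3
    have h30 : (3 : F) = 0 := by
      have := CharP.cast_eq_zero F 3
      exact_mod_cast this
    rcases case_ten G hb hS0 hS1 hx1 hyb hc3 hc10 with ⟨K, hKA, hKB⟩ | ⟨h3, h4⟩
    · left
      exact ⟨K, (hKB b).1 hyb, fun a => by rw [hGA, hKA], fun a => by rw [hGB, hKB]⟩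
    · right
      exact ⟨h30, h3, fun a => by rw [hGA, h4]⟩

end main

end Cfsg.Agent.H98.DickRoot
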